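import Cfsg.Agent.Lib.SLTwoPrime.Forms

/-! Groups spanning the matrix algebra and abelian modulo scalars. -/

set_option autoImplicit false

namespace Cfsg.Agent.Lib.SLEight

open Cfsg.Geo Matrix Cfsg.Agent.Lib.SLTwoPrime
open scoped MatrixGroups Kronecker commutatorElement

variable {ι : Type} [Fintype ι] [DecidableEq ι] {F : Type*} [Field F] [Finite F] [Nonempty ι]

/-- representatives modulo scalars form a basis -/
theorem exists_rep_basis {N : Subgroup (GL ι F)} (htop : adj N = ⊤)
    (hab : ∀ x ∈ N, ∀ y ∈ N, x * y * x⁻¹ * y⁻¹ ∈ scalars ι F) :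
    ∃ b : Module.Basis (N ⧸ (scalars ι F).subgroupOf N) F (Matrix ι ι F),
      ∀ q, b q = ((q.out : N) : GL ι F) := by
  classical
  have : Finite N := inferInstance
  let Z := (scalars ι F).subgroupOf N
  let ρ : N ⧸ Z → Matrix ι ι F := fun q => ((q.out : N) : GL ι F)
  have hcj : ∀ (x : N) (q : N ⧸ Z), ∃ c : F, ((x : GL ι F) : Matrix ι ι F) * ρ q * (((x : GL ι F)⁻¹ : GL ι F) : Matrix ι ι F) = c • ρ q := by
    intro x q
    obtain ⟨c, hc⟩ := (mem_scalars_iff _).1 (hab x x.2 q.out q.out.2)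
    refine ⟨c, ?_⟩
    have := congrArg (· * ρ q) hc
    simp only [ρ, Units.val_mul, smul_mul_assoc, one_mul, Units.inv_mul_cancel_right] at this
    exact this
  choose χ hχ using hcj
  have hsep : ∀ a b, (∀ x, χ x a = χ x b) → a = b := by
    intro a b hab'
    obtain ⟨c, hc⟩ := scalar_of_commute htop
      (M := (((a.out : GL ι F)⁻¹ * b.out : GL ι F) : Matrix ι ι F)) fun x hx => by
        have hne : χ ⟨x, hx⟩ a ≠ 0 := fun h0 => by
          have := hχ ⟨x, hx⟩ a
          rw [h0, zero_smul] at this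
          have hu : IsUnit (((x : GL ι F) : Matrix ι ι F) * ρ a * (((x : GL ι F)⁻¹ : GL ι F) : Matrix ι ι F)) :=
            ((Units.isUnit _).mul (Units.isUnit _)).mul (Units.isUnit _)
          rw [this] at hu
          exact not_isUnit_zero hu
        have ha := hχ ⟨x, hx⟩ a
        have hb := hχ ⟨x, hx⟩ b
        rw [← hab'] at hb
        have key : (x * a.out * x⁻¹ : GL ι F)⁻¹ * (x * b.out * x⁻¹) = (a.out : GL ι F)⁻¹ * b.out := by
          rw [inv_mul_eq_iff_eq_mul]
          apply Units.ext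
          simp only [Units.val_mul]
          simp only [ρ] at ha hb
          rw [ha, hb, smul_mul_assoc, Units.mul_inv_cancel_left]
        rw [show (x * a.out * x⁻¹ : GL ι F)⁻¹ * (x * b.out * x⁻¹) = x * ((a.out : GL ι F)⁻¹ * b.out) * x⁻¹ by group,
          mul_inv_eq_iff_eq_mul] at key
        simpa only [Units.val_mul, mul_assoc] using congrArg Units.val key.symm
    have := mem_scalars_of_val hc
    rw [← QuotientGroup.out_eq' a, ← QuotientGroup.out_eq' b]
    exact QuotientGroup.eq.2 (by simpa [Z, Subgroup.mem_subgroupOf] using this)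
  have hli : LinearIndependent F ρ := by
    rw [linearIndependent_iff']
    intro s
    induction s using Finset.induction with
    | empty => intro c _ i hi; simp at hi
    | @insert a s ha ih =>
      intro c hc
      rw [Finset.sum_insert ha] at hc
      have hs : ∀ q ∈ s, c q = 0 := by
        intro q hq
        obtain ⟨x, hx⟩ : ∃ x, χ x q ≠ χ x a := by
          by_contra hcon; push Not at hcon; exact ha (hsep q a hcon ▸ hq)
        have h1 := congrArg (fun y => ((x : GL ι F) : Matrix ι ι F) * y * (((x : GL ι F)⁻¹ : GL ι F) : Matrix ι ι F)) hc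
        simp only [mul_add, add_mul, Finset.mul_sum, Finset.sum_mul, mul_smul_comm, smul_mul_assoc, hχ, mul_zero, zero_mul] at h1
        have h2 := congrArg (χ x a • ·) hc
        simp only [smul_add, Finset.smul_sum, smul_zero] at h2
        have h3 : ∑ r ∈ s, (c r * (χ x r - χ x a)) • ρ r = 0 := by
          have e1 : c a • χ x a • ρ a = χ x a • c a • ρ a := smul_comm _ _ _
          rw [e1] at h1
          have := h1.trans h2.symm
          rw [add_right_inj] at this
          rw [Finset.sum_congr rfl (fun r _ => show (c r * (χ x r - χ x a)) • ρ r = c r • χ x r • ρ r - χ x a • c r • ρ r by module),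
            Finset.sum_sub_distrib, this, sub_self]
        exact (mul_eq_zero.1 (ih _ h3 q hq)).resolve_right (sub_ne_zero.2 hx)
      intro i hi
      rcases Finset.mem_insert.1 hi with rfl | hi
      · rw [Finset.sum_eq_zero (fun r hr => by rw [hs r hr, zero_smul]), add_zero, smul_eq_zero] at hc
        exact hc.resolve_right (fun h0 => by
          have hu := Units.isUnit ((i.out : N) : GL ι F)
          simp only [ρ] at h0; rw [h0] at hu; exact not_isUnit_zero hu)
      · exact hs i hi
  have hsp : (⊤ : Submodule F (Matrix ι ι F)) ≤ Submodule.span F (Set.range ρ) := by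
    rw [← Algebra.top_toSubmodule, ← htop, Algebra.adjoin_eq_span]
    refine Submodule.span_le.2 fun y hy => ?_
    have hy' : y ∈ matrixSet N := by
      induction hy using Submonoid.closure_induction with
      | mem y hy => exact hy
      | one => exact ⟨1, N.one_mem, rfl⟩
      | mul a b _ _ ha hb =>
        obtain ⟨x, hx, rfl⟩ := ha; obtain ⟨z, hz, rfl⟩ := hb
        exact ⟨x * z, N.mul_mem hx hz, rfl⟩
    obtain ⟨x, hx, rfl⟩ := hy'
    have hmem : (QuotientGroup.mk (⟨x, hx⟩ : N) : N ⧸ Z).out⁻¹ * ⟨x, hx⟩ ∈ Z :=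
      QuotientGroup.eq.1 (QuotientGroup.out_eq' _)
    obtain ⟨c, hc⟩ := (mem_scalars_iff _).1 (Subgroup.mem_subgroupOf.1 hmem)
    have e1 : (x : Matrix ι ι F) = (c : F) • ρ (QuotientGroup.mk (⟨x, hx⟩ : N)) := by
      have := congrArg (ρ (QuotientGroup.mk (⟨x, hx⟩ : N)) * ·) hc
      simp only [ρ, Subgroup.coe_mul, Subgroup.coe_inv, Units.val_mul, Units.mul_inv_cancel_left, mul_smul_comm, mul_one] at this
      exact this
    show (x : Matrix ι ι F) ∈ Submodule.span F (Set.range ρ)
    rw [e1]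
    exact Submodule.smul_mem _ _ (Submodule.subset_span ⟨_, rfl⟩)
  exact ⟨Module.Basis.mk hli hsp, fun q => by rw [Module.Basis.coe_mk]⟩

/-- an algebra homomorphism given on a multiplicative basis -/
theorem exists_hom_of_basis {K : Type*} [Field K] {Q : Type*} [Fintype Q] {A B : Type*} [Ring A] [Algebra K A]
    [Ring B] [Algebra K B] (b : Module.Basis Q K A) (f : Q → B)
    (hmul : ∀ p q, ∃ (s : K) (r : Q), b p * b q = s • b r ∧ f p * f q = s • f r)
    (hone : b.constr K f 1 = 1) : ∃ φ : A →ₐ[K] B, ∀ q, φ (b q) = f q := by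
  refine ⟨AlgHom.ofLinearMap (b.constr K f) hone fun x y => ?_, fun q => b.constr_basis K f q⟩
  conv_lhs => rw [← b.sum_repr x, ← b.sum_repr y]
  conv_rhs => rw [← b.sum_repr x, ← b.sum_repr y]
  simp only [Finset.sum_mul, Finset.mul_sum, map_sum, smul_mul_assoc, mul_smul_comm, map_smul]
  refine Finset.sum_congr rfl fun q _ => ?_
  congr 1
  refine Finset.sum_congr rfl fun p _ => ?_
  congr 1
  obtain ⟨s, r, h1, h2⟩ := hmul p q
  rw [h1, map_smul, b.constr_basis, b.constr_basis, b.constr_basis, h2]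

/-- coordinates of a member of the group -/
lemma rep_smul {N : Subgroup (GL ι F)} {x : GL ι F} (hx : x ∈ N) :
    ∃ (z : GL ι F) (c : F), z ∈ N ∧ z ∈ scalars ι F ∧ (z : Matrix ι ι F) = c • 1 ∧
      x = ((QuotientGroup.mk (⟨x, hx⟩ : N) : N ⧸ (scalars ι F).subgroupOf N).out : GL ι F) * z ∧
      (x : Matrix ι ι F) = c • (((QuotientGroup.mk (⟨x, hx⟩ : N) : N ⧸ (scalars ι F).subgroupOf N).out : GL ι F) : Matrix ι ι F) := by
  set Z := (scalars ι F).subgroupOf N
  set y := (QuotientGroup.mk (⟨x, hx⟩ : N) : N ⧸ Z).out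
  have hmem : y⁻¹ * ⟨x, hx⟩ ∈ Z := QuotientGroup.eq.1 (QuotientGroup.out_eq' _)
  obtain ⟨c, hc⟩ := (mem_scalars_iff _).1 (Subgroup.mem_subgroupOf.1 hmem)
  refine ⟨(y⁻¹ * ⟨x, hx⟩ : N), c, SetLike.coe_mem _, Subgroup.mem_subgroupOf.1 hmem, hc, by simp, ?_⟩
  have := congrArg (fun m : Matrix ι ι F => ((y : GL ι F) : Matrix ι ι F) * m) hc
  simpa using this

section Form

variable {n : ℕ}

/-- a group whose scalar squares are compatible with `σ` fixes a classical form -/
theorem le_classical (hn : 0 < n) {R H : Subgroup (GL (Fin n) F)} (htop : adj R = ⊤) (h2 : (2 : F) ≠ 0)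
    (hab : ∀ x ∈ R, ∀ y ∈ R, x * y * x⁻¹ * y⁻¹ ∈ scalars (Fin n) F)
    (hnorm : ∀ g ∈ H, ∀ x ∈ R, g * x * g⁻¹ ∈ R) (σ : F ≃+* F) (hσ : ∀ a, σ (σ a) = a)
    (hsc : ∀ z ∈ R, ∀ c : F, (z : Matrix (Fin n) (Fin n) F) = c • 1 → c * σ c = 1) :
    (∃ Q : (Fin n → F) → F, IsNondegenerateQuadraticForm Q ∧ H ≤ quadSimilarityGroup Q) ∨
    (∃ f : (Fin n → F) → (Fin n → F) → F, IsSymplecticForm f ∧ H ≤ similarityGroup f) ∨
    (∃ (s : F ≃+* F) (f : (Fin n → F) → (Fin n → F) → F), IsUnitaryForm s f ∧ H ≤ similarityGroup f) := by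
  classical
  haveI : Nonempty (Fin n) := ⟨⟨0, hn⟩⟩
  obtain ⟨b, hb⟩ := exists_rep_basis htop hab
  have : Fintype (R ⧸ (scalars (Fin n) F).subgroupOf R) := Fintype.ofFinite _
  let ψ : GL (Fin n) F → Matrix (Fin n) (Fin n) F := fun g =>
    (((g⁻¹ : GL (Fin n) F) : Matrix (Fin n) (Fin n) F)ᵀ).map σ
  have hψmul : ∀ g h, ψ (g * h) = ψ g * ψ h := fun g h => by
    simp only [ψ, _root_.mul_inv_rev, Units.val_mul, transpose_mul, Matrix.map_mul]
  have hψsc : ∀ z ∈ R, ∀ c : F, (z : Matrix (Fin n) (Fin n) F) = c • 1 → ψ z = c • 1 := by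
    intro z hz c hc
    have hc0 : c ≠ 0 := left_ne_zero_of_mul_eq_one (hsc z hz c hc)
    have hinv : ((z⁻¹ : GL (Fin n) F) : Matrix (Fin n) (Fin n) F) = c⁻¹ • 1 := by
      have := z.inv_mul
      rw [hc, mul_smul_comm, mul_one] at this
      rw [← this, smul_smul, inv_mul_cancel₀ hc0, one_smul]
    have : σ c⁻¹ = c := by rw [map_inv₀]; exact inv_eq_of_mul_eq_one_left (hsc z hz c hc)
    show (((z⁻¹ : GL (Fin n) F) : Matrix (Fin n) (Fin n) F)ᵀ).map σ = _
    rw [hinv]
    simp [Matrix.smul_one_eq_diagonal, Matrix.diagonal_map, ← map_inv₀ σ, this]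
  let f : R ⧸ (scalars (Fin n) F).subgroupOf R → Matrix (Fin n) (Fin n) F := fun q => ψ (q.out : GL (Fin n) F)
  have hrep : ∀ x (hx : x ∈ R), ∃ (c : F) (r : R ⧸ (scalars (Fin n) F).subgroupOf R),
      (x : Matrix (Fin n) (Fin n) F) = c • b r ∧ ψ x = c • f r := by
    intro x hx
    obtain ⟨z, c, hzR, hzs, hzc, hxeq, hxm⟩ := rep_smul hx
    refine ⟨c, QuotientGroup.mk (⟨x, hx⟩ : R), by rw [hb]; exact hxm, ?_⟩
    conv_lhs => rw [hxeq, hψmul, hψsc z hzR c hzc, mul_smul_comm, mul_one]
  obtain ⟨Θ, hΘ⟩ := exists_hom_of_basis b f (fun p q => by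
      obtain ⟨c, r, h1, h3⟩ := hrep _ (R.mul_mem p.out.2 q.out.2)
      refine ⟨c, r, ?_, ?_⟩
      · rw [hb, hb, ← Units.val_mul]; exact h1
      · rw [← h3]; exact (hψmul _ _).symm) (by
      obtain ⟨c, r, h1, h3⟩ := hrep 1 R.one_mem
      have e : (1 : Matrix (Fin n) (Fin n) F) = c • b r := h1
      rw [e, map_smul, Module.Basis.constr_basis, ← h3, ← e]
      simp [ψ])
  obtain ⟨G, hG⟩ := exists_inner hn Θ
  set G' := (G : Matrix (Fin n) (Fin n) F).map σ with hG'
  let fm : (Fin n → F) → (Fin n → F) → F := fun u v => u ⬝ᵥ (G' *ᵥ fun i => σ (v i))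
  have hsmulv : ∀ (c : F) (v : Fin n → F), (fun i => σ ((c • v) i)) = σ c • fun i => σ (v i) := fun c v => by
    funext i; simp
  have haddv : ∀ (v w : Fin n → F), (fun i => σ ((v + w) i)) = (fun i => σ (v i)) + fun i => σ (w i) := fun v w => by
    funext i; simp
  have hses : Sesq σ fm := ⟨fun x y v => add_dotProduct _ _ _, fun c x v => by simp [fm, smul_dotProduct],
    fun v x y => by simp only [fm]; rw [haddv, mulVec_add, dotProduct_add],
    fun c v x => by simp only [fm]; rw [hsmulv, mulVec_smul, dotProduct_smul, smul_eq_mul]⟩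
  have hGu : IsUnit G' := by
    have h1 : IsUnit (G : Matrix (Fin n) (Fin n) F) := Units.isUnit G
    exact h1.map σ.toRingHom.mapMatrix
  have hnd : IsNondegenerateForm fm := by
    intro v hv
    have hsv : (fun i => σ (v i)) ≠ 0 := fun h => hv (funext fun i => σ.injective (by simpa using congrFun h i))
    refine ⟨?_, ?_⟩
    · have hne : G' *ᵥ (fun i => σ (v i)) ≠ 0 := fun h => hsv ((Matrix.mulVec_injective_iff_isUnit.2 hGu)
        (h.trans (mulVec_zero _).symm))
      obtain ⟨i, hi⟩ := Function.ne_iff.1 hne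
      exact ⟨Pi.single i 1, by simpa [fm] using hi⟩
    · have hne : v ᵥ* G' ≠ 0 := fun h => hv ((Matrix.vecMul_injective_iff_isUnit.2 hGu) (h.trans (zero_vecMul _).symm))
      obtain ⟨i, hi⟩ := Function.ne_iff.1 hne
      refine ⟨Pi.single i 1, ?_⟩
      simp only [fm, dotProduct_mulVec]
      have : (fun j => σ ((Pi.single i (1 : F) : Fin n → F) j)) = Pi.single i 1 := by
        funext j; by_cases h : j = i <;> simp [h]
      rw [this]; simpa using hi
  have hfix : FixesForm (matrixSet R) fm := by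
    rintro _ ⟨r, hr, rfl⟩ u v
    obtain ⟨c, q, h1, h3⟩ := hrep r hr
    have hΘr : Θ (r : Matrix (Fin n) (Fin n) F) = ψ r := by rw [h1, map_smul, hΘ, h3]
    rw [hG] at hΘr
    have key : (r : Matrix (Fin n) (Fin n) F)ᵀ * G' * (r : Matrix (Fin n) (Fin n) F).map σ = G' := by
      have e0 := congrArg (fun m => ((r : Matrix (Fin n) (Fin n) F)ᵀ).map σ * m * (G : Matrix (Fin n) (Fin n) F)) hΘr
      simp only [ψ, mul_assoc, Units.inv_mul, mul_one] at e0
      rw [← mul_assoc ((r : Matrix (Fin n) (Fin n) F)ᵀ.map σ) (((r⁻¹ : GL (Fin n) F) : Matrix (Fin n) (Fin n) F)ᵀ.map σ),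
        ← Matrix.map_mul, ← transpose_mul, Units.inv_mul, transpose_one,
        Matrix.map_one _ (map_zero σ) (map_one σ), one_mul] at e0
      have e1 := congrArg (fun m : Matrix (Fin n) (Fin n) F => m.map σ) e0
      simpa [hG', transpose_mul, Matrix.map_mul, Matrix.transpose_map, Matrix.map_map, Function.comp_def, hσ, mul_assoc] using e1
    show ((r : Matrix (Fin n) (Fin n) F) *ᵥ u) ⬝ᵥ (G' *ᵥ fun i => σ (((r : Matrix (Fin n) (Fin n) F) *ᵥ v) i)) = u ⬝ᵥ _
    have e : (fun i => σ (((r : Matrix (Fin n) (Fin n) F) *ᵥ v) i)) = (r : Matrix (Fin n) (Fin n) F).map σ *ᵥ fun i => σ (v i) :=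
      funext fun i => RingHom.map_mulVec σ.toRingHom _ _ i
    rw [e, dotProduct_comm, dotProduct_mulVec, ← mulVec_transpose, dotProduct_comm, mulVec_mulVec, mulVec_mulVec,
      key]
  set f' : (Fin n → F) → (Fin n → F) → F := fun u v => σ (fm v u)
  have hses' : Sesq σ f' := ⟨fun x y v => by simp [f', hses.add_right], fun c x v => by simp [f', hses.smul_right, hσ],
    fun v x y => by simp [f', hses.add_left], fun c v x => by simp [f', hses.smul_left]⟩
  obtain ⟨c, hc⟩ := hses.proportional htop hses' hnd hfix fun s hs u v => by simp only [f', hfix s hs]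
  have hsim := le_similarityGroup htop hnorm hses hnd hfix
  have hcc : c * σ c = 1 := by
    obtain ⟨v, hv⟩ := exists_ne (0 : Fin n → F)
    obtain ⟨x, hx⟩ := (hnd v hv).1
    have h1 := congrArg σ (hc v x)
    simp only [f', hσ, map_mul] at h1
    have h3 := hc x v
    simp only [f'] at h3
    rw [h3] at h1
    exact (mul_left_eq_self₀.1 (show (c * σ c) * fm x v = fm x v by linear_combination -h1)).resolve_right hx
  by_cases hid : ∀ a, σ a = a
  · rw [hid] at hcc
    rcases mul_self_eq_one_iff.1 hcc with hc1 | hc1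
    · left
      have hsym : ∀ u v, fm v u = fm u v := fun u v => by simpa [f', hid, hc1] using hc u v
      have hpol : ∀ u v, QuadraticMap.polar (fun w => fm w w) u v = 2 * fm u v := fun u v => by
        simp only [QuadraticMap.polar, hses.add_left, hses.add_right, hsym u v]; ring
      refine ⟨fun w => fm w w, ⟨fun a v => by rw [hses.smul_left, hses.smul_right, hid]; ring, ⟨?_, ?_, ?_, ?_⟩, fun v hv => ?_⟩, ?_⟩
      · intro x y v; rw [hpol, hpol, hpol, hses.add_left, mul_add]
      · intro a x v; rw [hpol, hpol, hses.smul_left]; ring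
      · intro v x y; rw [hpol, hpol, hpol, hses.add_right, mul_add]
      · intro a v x; rw [hpol, hpol, hses.smul_right, hid]; ring
      · obtain ⟨⟨x, hx⟩, ⟨y, hy⟩⟩ := hnd v hv
        exact ⟨⟨x, by rw [hpol]; exact mul_ne_zero h2 hx⟩, ⟨y, by rw [hpol]; exact mul_ne_zero h2 hy⟩⟩
      · intro g hg
        obtain ⟨d, hd⟩ := hsim hg
        exact ⟨d, fun v => hd v v⟩
    · right; left
      have hsk : ∀ u v, fm u v = - fm v u := fun u v => by
        have := hc u v
        simp [f', hid, hc1] at this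
        linear_combination this
      refine ⟨fm, ⟨⟨hses.add_left, hses.smul_left, hses.add_right, fun a v x => by rw [hses.smul_right, hid]⟩, hsk,
        fun v => ?_, hnd⟩, hsim⟩
      exact (mul_eq_zero.1 (show (2 : F) * fm v v = 0 by linear_combination hsk v v)).resolve_left h2
  · right; right
    obtain ⟨a, ha, haσ⟩ : ∃ a : F, a ≠ 0 ∧ σ a * c = a := by
      have key : ∀ x, σ (x + c * σ x) * c = x + c * σ x := fun x => by
        rw [map_add, map_mul, hσ]; linear_combination x * hcc
      by_cases h1 : (1 : F) + c * σ 1 = 0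
      · push Not at hid
        obtain ⟨x, hx⟩ := hid
        refine ⟨x + c * σ x, fun h0 => hx ?_, key x⟩
        rw [map_one, mul_one] at h1
        linear_combination -h0 + (σ x) * h1
      · exact ⟨_, h1, key 1⟩
    refine ⟨σ, fun u v => a * fm u v, ⟨fun h => hid fun x => by rw [h]; rfl, hσ, ?_, ?_, ?_, fun v hv => ?_⟩, fun g hg => ?_⟩
    · intro x y v; rw [hses.add_left, mul_add]
    · intro d x v; rw [hses.smul_left]; ring
    · intro v w
      have := hc v w
      simp only [f'] at this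
      rw [map_mul, this]; linear_combination (fm v w) * haσ.symm
    · obtain ⟨⟨x, hx⟩, ⟨y, hy⟩⟩ := hnd v hv
      exact ⟨⟨x, mul_ne_zero ha hx⟩, ⟨y, mul_ne_zero ha hy⟩⟩
    · obtain ⟨d, hd⟩ := hsim hg
      exact ⟨d, fun u v => by show a * fm _ _ = _; rw [hd]; ring⟩

/-- a finite dimensional algebra without nilpotent ideals and with small centre is a matrix algebra -/
theorem wedderburn {K : Type*} [Field K] [Finite K] {A : Type*} [Ring A] [Algebra K A] [Nontrivial A]
    [Finite A] (hJ : Ring.jacobson A = ⊥) (hcen : ∀ z : A, (∀ a, z * a = a * z) → ∃ c : K, z = algebraMap K A c) :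
    ∃ d : ℕ, Nonempty (Matrix (Fin d) (Fin d) K ≃ₐ[K] A) := by
  classical
  have : Module.Finite K A := Module.Finite.of_finite
  have : IsArtinianRing A := isArtinian_of_finite
  have : IsSemisimpleRing A := IsArtinianRing.isSemisimpleRing_iff_jacobson.2 hJ
  obtain ⟨n, D, d, _, _, _, hd, ⟨e⟩⟩ := IsSemisimpleRing.exists_algEquiv_pi_matrix_divisionRing_finite K A
  have hcentre : ∀ z : (i : Fin n) → Matrix (Fin (d i)) (Fin (d i)) (D i), (∀ y, z * y = y * z) →
      ∃ c : K, z = algebraMap K _ c := by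
    intro z hz
    obtain ⟨c, hc⟩ := hcen (e.symm z) fun a => by
      have := congrArg e.symm (hz (e a)); simpa using this
    exact ⟨c, e.symm.injective (by rw [hc, AlgEquiv.commutes])⟩
  obtain ⟨i, hi⟩ : ∃ i : Fin n, ∀ j, j = i := by
    rcases n with _ | n
    · exact absurd (e.injective (funext fun i => i.elim0) : (1 : A) = 0) one_ne_zero
    refine ⟨0, fun j => ?_⟩
    by_contra hj
    obtain ⟨c, hc⟩ := hcentre (Pi.single 0 1) fun y => by
      funext k
      by_cases hk : k = 0
      · subst hk; simp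
      · simp [hk]
    have h0 := congrFun hc 0
    have hj' := congrFun hc j
    rw [Pi.single_eq_same, Pi.algebraMap_apply] at h0
    rw [Pi.single_eq_of_ne hj, Pi.algebraMap_apply] at hj'
    have hc0 : c = 0 := by
      have := hd j
      exact (FaithfulSMul.algebraMap_injective K (Matrix (Fin (d j)) (Fin (d j)) (D j))) (by rw [map_zero]; exact hj'.symm)
    have := hd 0
    rw [hc0, map_zero] at h0
    exact one_ne_zero h0
  have hdi := hd i
  have : Finite (D i) := Module.finite_of_finite K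
  have hDcomm : ∀ x y : D i, x * y = y * x := (littleWedderburn (D i)).mul_comm
  let ψ : A →ₐ[K] Matrix (Fin (d i)) (Fin (d i)) (D i) := (Pi.evalAlgHom K _ i).comp e.toAlgHom
  have hψ : Function.Bijective ψ := by
    refine ⟨fun a b hab => e.injective (funext fun j => ?_), fun y => ⟨e.symm (Function.update 0 i y), by simp [ψ]⟩⟩
    obtain rfl := hi j
    exact hab
  have hsurj : Function.Surjective (Algebra.ofId K (D i)) := by
    intro x
    obtain ⟨c, hc⟩ := hcentre (Function.update 0 i (Matrix.scalar _ x)) fun y => by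
      funext j
      obtain rfl := hi j
      simp only [Pi.mul_apply, Function.update_self]
      exact Matrix.scalar_commute x (fun r => hDcomm x r) _
    refine ⟨c, ?_⟩
    have := congrFun hc i
    rw [Function.update_self, Pi.algebraMap_apply, Algebra.algebraMap_eq_smul_one] at this
    have := congrFun₂ this (0 : Fin (d i)) 0
    simpa [Algebra.ofId_apply, Algebra.algebraMap_eq_smul_one] using this.symm
  refine ⟨d i, ⟨(AlgEquiv.ofBijective (Algebra.ofId K (D i)).mapMatrix ⟨fun a b hab => ?_, fun y => ?_⟩).trans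
    (AlgEquiv.ofBijective ψ hψ).symm⟩⟩
  · exact Matrix.ext fun r s => (Algebra.ofId K (D i)).toRingHom.injective (congrFun₂ hab r s)
  · exact ⟨fun r s => (hsurj (y r s)).choose, Matrix.ext fun r s => (hsurj (y r s)).choose_spec⟩

/-- a group with scalar part in a subfield is realised over it -/
theorem realisable (hn : 0 < n) {R : Subgroup (GL (Fin n) F)} (htop : adj R = ⊤)
    (hab : ∀ x ∈ R, ∀ y ∈ R, x * y * x⁻¹ * y⁻¹ ∈ scalars (Fin n) F) (F₁ : Subfield F)
    (hsc : ∀ z ∈ R, ∀ c : F, (z : Matrix (Fin n) (Fin n) F) = c • 1 → c ∈ F₁) :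
    RealisableOver F₁ (matrixSet R) := by
  classical
  haveI : Nonempty (Fin n) := ⟨⟨0, hn⟩⟩
  obtain ⟨b, hb⟩ := exists_rep_basis htop hab
  have : Fintype (R ⧸ (scalars (Fin n) F).subgroupOf R) := Fintype.ofFinite _
  let A₁ := Algebra.adjoin F₁ (matrixSet R)
  have hspan : Subalgebra.toSubmodule A₁ = Submodule.span F₁ (Set.range b) := by
    refine le_antisymm ?_ (Submodule.span_le.2 ?_)
    · rw [Algebra.adjoin_eq_span]
      refine Submodule.span_le.2 fun y hy => ?_
      have hy' : y ∈ matrixSet R := by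
        induction hy using Submonoid.closure_induction with
        | mem y hy => exact hy
        | one => exact ⟨1, R.one_mem, rfl⟩
        | mul a b _ _ ha hb =>
          obtain ⟨x, hx, rfl⟩ := ha; obtain ⟨z, hz, rfl⟩ := hb
          exact ⟨x * z, R.mul_mem hx hz, rfl⟩
      obtain ⟨x, hx, rfl⟩ := hy'
      obtain ⟨z, c, hzR, -, hzc, -, hxm⟩ := rep_smul hx
      show (x : Matrix (Fin n) (Fin n) F) ∈ Submodule.span F₁ _
      rw [hxm, ← hb]
      exact Submodule.smul_mem _ (⟨c, hsc z hzR c hzc⟩ : F₁) (Submodule.subset_span ⟨_, rfl⟩)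
    · rintro _ ⟨q, rfl⟩
      rw [hb]
      exact Algebra.subset_adjoin ⟨_, q.out.2, rfl⟩
  have hli : LinearIndependent F₁ b := b.linearIndependent.restrict_scalars
    (by intro x y h; simpa [Subfield.smul_def] using h)
  have hdim : Module.finrank F₁ A₁ = n * n := by
    show Module.finrank F₁ (Subalgebra.toSubmodule A₁) = n * n
    rw [hspan, finrank_span_eq_card hli, ← Module.finrank_eq_card_basis b, Module.finrank_matrix]
    simp
  have : Finite A₁ := inferInstance
  have hJ : Ring.jacobson A₁ = ⊥ := by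
    have : IsArtinianRing A₁ := isArtinian_of_finite
    obtain ⟨m, hm⟩ := IsSemiprimaryRing.isNilpotent (R := A₁)
    rw [eq_bot_iff]
    intro k hk
    rw [Submodule.mem_bot]
    have htr : ∀ a ∈ A₁, Matrix.trace (a * (k : Matrix (Fin n) (Fin n) F)) = 0 := by
      intro a ha
      have hak : (⟨a, ha⟩ : A₁) * k ∈ Ring.jacobson A₁ := Ideal.mul_mem_left _ _ hk
      have hnil : IsNilpotent (((⟨a, ha⟩ : A₁) * k : A₁) : Matrix (Fin n) (Fin n) F) := by
        refine ⟨m, ?_⟩
        have := Ideal.pow_mem_pow hak m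
        rw [hm, Submodule.zero_eq_bot, Submodule.mem_bot] at this
        rw [← SubmonoidClass.coe_pow, this, ZeroMemClass.coe_zero]
      exact (Matrix.isNilpotent_trace_of_isNilpotent hnil).eq_zero
    have hall : ∀ a, Matrix.trace (a * (k : Matrix (Fin n) (Fin n) F)) = 0 := by
      intro a
      rw [← b.sum_repr a, Finset.sum_mul, Matrix.trace_sum]
      refine Finset.sum_eq_zero fun q _ => ?_
      rw [smul_mul_assoc, Matrix.trace_smul, htr _ (by rw [hb]; exact Algebra.subset_adjoin ⟨_, q.out.2, rfl⟩), smul_zero]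
    exact Subtype.ext (Matrix.ext fun i j => by
      simpa [Matrix.trace, Matrix.mul_apply, Matrix.single_apply, ite_and] using hall (Matrix.single j i 1))
  obtain ⟨d, ⟨e⟩⟩ := wedderburn (K := F₁) hJ fun z hz => by
    obtain ⟨c, hc⟩ := scalar_of_commute htop (M := (z : Matrix (Fin n) (Fin n) F)) fun x hx =>
      congrArg Subtype.val (hz ⟨x, Algebra.subset_adjoin ⟨x, hx, rfl⟩⟩)
    suffices hc1 : c ∈ F₁ by
      refine ⟨⟨c, hc1⟩, Subtype.ext (hc.trans ?_)⟩
      rw [Subalgebra.coe_algebraMap, Algebra.algebraMap_eq_smul_one]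
      rfl
    obtain ⟨w, c₀, hwR, -, hwc, -, h1m⟩ := rep_smul R.one_mem
    set q₀ : R ⧸ (scalars (Fin n) F).subgroupOf R := QuotientGroup.mk (⟨1, R.one_mem⟩ : R)
    obtain ⟨v, hv⟩ := (Submodule.mem_span_range_iff_exists_fun F₁).1 (hspan.le z.2)
    have heq : ∑ q, (v q : F) • b q = (c * c₀) • b q₀ := by
      rw [← smul_smul, hb q₀, ← h1m, Units.val_one, ← hc, ← hv]; rfl
    have := congrArg (fun y => b.repr y q₀) heq
    simp [map_sum, Finsupp.single_apply, Finsupp.finsetSum_apply] at this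
    have hc0 : c₀ ≠ 0 := fun h0 => by
      rw [h0, zero_smul] at hwc
      exact (Units.isUnit w).ne_zero hwc
    have : c = (v q₀ : F) * c₀⁻¹ := by rw [this, mul_inv_cancel_right₀ hc0]
    rw [this]
    exact F₁.mul_mem (v q₀).2 (F₁.inv_mem (hsc w hwR c₀ hwc))
  obtain rfl : d = n := by
    have := e.toLinearEquiv.finrank_eq
    rw [hdim, Module.finrank_matrix, Fintype.card_fin, Module.finrank_self, mul_one] at this
    exact Nat.mul_self_inj.1 this
  let φ : Matrix (Fin d) (Fin d) F₁ →ₐ[F₁] Matrix (Fin d) (Fin d) F := A₁.val.comp e.toAlgHom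
  let sb := Matrix.stdBasis F (Fin d) (Fin d)
  have hsb : ∀ p, sb p = Matrix.single p.1 p.2 1 := fun p => Matrix.stdBasis_eq_single F p.1 p.2
  let g : Fin d × Fin d → Matrix (Fin d) (Fin d) F := fun p => φ (Matrix.single p.1 p.2 1)
  obtain ⟨φF, hφF⟩ := exists_hom_of_basis sb g (fun p q => by
      by_cases h : p.2 = q.1
      · refine ⟨1, (p.1, q.2), ?_, ?_⟩
        · rw [hsb, hsb, hsb, h, Matrix.single_mul_single_same, one_mul, one_smul]
        · simp only [g]; rw [← map_mul, h, Matrix.single_mul_single_same, one_mul, one_smul]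
      · refine ⟨0, p, ?_, ?_⟩
        · rw [hsb, hsb, Matrix.single_mul_single_of_ne (h := h), zero_smul]
        · simp only [g]; rw [← map_mul, Matrix.single_mul_single_of_ne (h := h), map_zero, zero_smul]) (by
      have h1 : (1 : Matrix (Fin d) (Fin d) F) = ∑ i, sb (i, i) := by
        ext r s; simp [sb, Matrix.stdBasis_eq_single, Matrix.sum_apply, Matrix.single_apply, Matrix.one_apply, ite_and]
      rw [h1, map_sum, ← h1]
      simp only [Module.Basis.constr_basis, g]
      rw [← map_sum, ← map_one φ]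
      congr 1
      ext r s; simp [Matrix.sum_apply, Matrix.single_apply, Matrix.one_apply, ite_and])
  obtain ⟨Q, hQ⟩ := exists_inner hn φF
  let j : Matrix (Fin d) (Fin d) F₁ →ₐ[F₁] Matrix (Fin d) (Fin d) F := (Algebra.ofId F₁ F).mapMatrix
  have hagree : ∀ X, φ X = φF (j X) := by
    intro X
    conv_lhs => rw [Matrix.matrix_eq_sum_single X]
    conv_rhs => rw [Matrix.matrix_eq_sum_single X]
    simp only [map_sum]
    refine Finset.sum_congr rfl fun r _ => Finset.sum_congr rfl fun s _ => ?_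
    have e1 : Matrix.single r s (X r s) = X r s • Matrix.single r s (1 : F₁) := by rw [Matrix.smul_single, smul_eq_mul, mul_one]
    have e2 : j (Matrix.single r s 1) = sb (r, s) := by
      simp only [j, sb, Matrix.stdBasis_eq_single, AlgHom.mapMatrix_apply]
      rw [Matrix.map_single, map_one]
    rw [e1, map_smul, map_smul, e2, ← algebraMap_smul F (X r s) (sb (r, s)), map_smul, hφF, algebraMap_smul]
  refine ⟨Q⁻¹, ?_⟩
  rintro _ ⟨x, hx, rfl⟩ r s
  obtain ⟨X, hX⟩ := e.surjective ⟨x, Algebra.subset_adjoin ⟨x, hx, rfl⟩⟩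
  have hval : (x : Matrix (Fin d) (Fin d) F) = φF (j X) := by
    rw [← hagree]; exact (congrArg Subtype.val hX).symm
  show (((Q⁻¹ : GL (Fin d) F) : Matrix (Fin d) (Fin d) F) * x * ((Q⁻¹⁻¹ : GL (Fin d) F) : Matrix (Fin d) (Fin d) F)) r s ∈ F₁
  rw [hval, hQ, inv_inv]
  simp only [mul_assoc, Units.inv_mul_cancel_left, Units.inv_mul, mul_one]
  exact (X r s).2

end Form

end Cfsg.Agent.Lib.SLEight
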