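import Cfsg.Agent.Lib.SLTwoPrime.Core

/-! Three commuting two-dimensional tensor factors fix a bilinear form. -/

set_option autoImplicit false

namespace Cfsg.Agent.Lib.SLEight

open Cfsg.Geo Matrix Cfsg.Agent.Lib.SLTwoPrime
open scoped MatrixGroups Kronecker commutatorElement

variable {F : Type*} [Field F]

/-- the alternating Gram matrix in dimension two -/
def J₂ : Matrix (Fin 2) (Fin 2) F := !![0, 1; -1, 0]

lemma J₂_fixed {a : Matrix (Fin 2) (Fin 2) F} (h : a.det = 1) : aᵀ * (J₂ * a) = J₂ := by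
  rw [Matrix.det_fin_two] at h
  ext i j
  fin_cases i <;> fin_cases j <;> simp [J₂, Matrix.mul_apply, Fin.sum_univ_two, Matrix.vecMul, dotProduct]
  · ring
  · linear_combination h
  · linear_combination -h
  · ring

lemma J₂_isUnit : IsUnit (J₂ : Matrix (Fin 2) (Fin 2) F) := by
  rw [Matrix.isUnit_iff_isUnit_det, J₂, Matrix.det_fin_two]; simp

/-- a form from two commuting tensor factors -/
theorem kron_form {ι : Type} [Fintype ι] [DecidableEq ι] {d w : ℕ} (e : ι ≃ Fin d × Fin w) (P : GL ι F)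
    {J : Matrix (Fin d) (Fin d) F} {G₂ : Matrix (Fin w) (Fin w) F} (hJ : IsUnit J) (hG : IsUnit G₂) :
    ∃ G : Matrix ι ι F, IsUnit G ∧ ∀ (a : Matrix (Fin d) (Fin d) F) (B : Matrix (Fin w) (Fin w) F),
      aᵀ * (J * a) = J → Bᵀ * (G₂ * B) = G₂ →
      ((P : Matrix ι ι F) * Matrix.reindex e.symm e.symm (a ⊗ₖ B) * ((P⁻¹ : GL ι F) : Matrix ι ι F))ᵀ *
        (G * ((P : Matrix ι ι F) * Matrix.reindex e.symm e.symm (a ⊗ₖ B) * ((P⁻¹ : GL ι F) : Matrix ι ι F))) = G := by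
  let R : Matrix (Fin d × Fin w) (Fin d × Fin w) F ≃ₐ[F] Matrix ι ι F := Matrix.reindexAlgEquiv F F e.symm
  refine ⟨((P⁻¹ : GL ι F) : Matrix ι ι F)ᵀ * R (J ⊗ₖ G₂) * ((P⁻¹ : GL ι F) : Matrix ι ι F), ?_, fun a B ha hB => ?_⟩
  · refine (((Matrix.isUnit_transpose _).2 (Units.isUnit _)).mul (IsUnit.map R ?_)).mul (Units.isUnit _)
    rw [Matrix.isUnit_iff_isUnit_det, det_kronecker]
    exact ((((Matrix.isUnit_iff_isUnit_det _).1 hJ).pow _).mul (((Matrix.isUnit_iff_isUnit_det _).1 hG).pow _))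
  · have key : (R (a ⊗ₖ B))ᵀ * (R (J ⊗ₖ G₂) * R (a ⊗ₖ B)) = R (J ⊗ₖ G₂) := by
      have ht : (R (a ⊗ₖ B))ᵀ = R (aᵀ ⊗ₖ Bᵀ) := by
        apply Matrix.ext; intro i j; simp [R, Matrix.kroneckerMap_apply]
      rw [ht, ← map_mul, ← map_mul, ← mul_kronecker_mul, ← mul_kronecker_mul, ha, hB]
    have hX : Matrix.reindex e.symm e.symm (a ⊗ₖ B) = R (a ⊗ₖ B) := rfl
    rw [hX, transpose_mul, transpose_mul]
    simp only [mul_assoc, Units.inv_mul_cancel_left]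
    have hP : (P : Matrix ι ι F)ᵀ * ((P⁻¹ : GL ι F) : Matrix ι ι F)ᵀ = 1 := by
      rw [← transpose_mul, Units.inv_mul, transpose_one]
    rw [← mul_assoc (P : Matrix ι ι F)ᵀ, hP, one_mul]
    congr 1
    rw [← mul_assoc (R (J ⊗ₖ G₂)), ← mul_assoc ((R (a ⊗ₖ B))ᵀ), key]

/-- multiplicative images of a perfect group have determinant one -/
theorem det_one_of_perfect {G : Type*} [Group G] {T : Subgroup G} (hT : ⁅T, T⁆ = T) {d : ℕ}
    (f : T →* Matrix (Fin d) (Fin d) F) (t : T) : (f t).det = 1 := by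
  let δ : T →* Fˣ := ((Matrix.detMonoidHom).comp f).toHomUnits
  have h : ⁅T, T⁆ ≤ δ.ker.map T.subtype := by
    refine Subgroup.commutator_le.2 fun a ha b hb => Subgroup.mem_map.2 ⟨⁅(⟨a, ha⟩ : T), (⟨b, hb⟩ : T)⁆, ?_, ?_⟩
    · rw [MonoidHom.mem_ker]
      rw [map_commutatorElement, commutatorElement_eq_one_iff_mul_comm, mul_comm]
    · exact map_commutatorElement T.subtype _ _
  obtain ⟨s, hs, hst⟩ := Subgroup.mem_map.1 (h (hT.ge t.2))
  obtain rfl : s = t := Subtype.ext hst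
  exact congrArg Units.val hs

/-- the form fixed by three factors -/
theorem three_factors {S T : Subgroup (GL (Fin 8) F)} (hS : ⁅S, S⁆ = S) (hT : ⁅T, T⁆ = T)
    {φ : Matrix (Fin 2) (Fin 2) F →ₐ[F] Matrix (Fin 8) (Fin 8) F} (hφ : Function.Injective φ)
    {ψ : Matrix (Fin 2) (Fin 2) F →ₐ[F] Matrix (Fin 8) (Fin 8) F} (hψ : Function.Injective ψ)
    (hSr : ∀ x ∈ S, (x : Matrix (Fin 8) (Fin 8) F) ∈ φ.range)
    (hTr : ∀ x ∈ T, (x : Matrix (Fin 8) (Fin 8) F) ∈ ψ.range)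
    (hψc : ∀ a b, ψ a * φ b = φ b * ψ a)
    {𝒦 : Set (Subgroup (GL (Fin 8) F))}
    (hK : ∀ U ∈ 𝒦, ⁅U, U⁆ = U ∧ ((U = S) ∨ (U = T) ∨
      ((∀ x ∈ U, ∀ b, (x : Matrix (Fin 8) (Fin 8) F) * φ b = φ b * x) ∧ ∀ x ∈ U, ∀ b, (x : Matrix (Fin 8) (Fin 8) F) * ψ b = ψ b * x))) :
    ∃ G : Matrix (Fin 8) (Fin 8) F, IsUnit G ∧ ∀ U ∈ 𝒦, ∀ x ∈ U,
      (x : Matrix (Fin 8) (Fin 8) F)ᵀ * (G * (x : Matrix (Fin 8) (Fin 8) F)) = G := by
  classical
  obtain ⟨w, e, Q, hw, hQ⟩ := units_form (by norm_num) φ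
  rw [Fintype.card_fin] at hw
  obtain rfl : w = 4 := by omega
  let R : Matrix (Fin 2 × Fin 4) (Fin 2 × Fin 4) F ≃ₐ[F] Matrix (Fin 8) (Fin 8) F :=
    (Matrix.reindexAlgEquiv F F e.symm).trans (cjA Q)
  have hφR : ∀ a, φ a = R (a ⊗ₖ 1) := fun a => by rw [hQ]; rfl
  let K : Matrix (Fin 4) (Fin 4) F →ₐ[F] Matrix (Fin 8) (Fin 8) F := R.toAlgHom.comp (kronHom 2 4)
  have hKval : ∀ B, K B = R ((1 : Matrix (Fin 2) (Fin 2) F) ⊗ₖ B) := fun B => rfl
  have hKinj : Function.Injective K := R.injective.comp (kronHom_injective (by norm_num) 4)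
  have hcomm : ∀ X : Matrix (Fin 8) (Fin 8) F, (∀ b, X * φ b = φ b * X) → X ∈ K.range := by
    intro X hX
    obtain ⟨B, hB⟩ := kron_commutant (show 0 < 2 by norm_num) (R.symm X) fun i j => by
      apply R.injective
      rw [map_mul, map_mul, AlgEquiv.apply_symm_apply, ← hφR]
      exact hX _
    refine ⟨B, ?_⟩
    show K B = X
    rw [hKval, ← hB, AlgEquiv.apply_symm_apply]
  let eK := AlgEquiv.ofInjective K hKinj
  let χ : Matrix (Fin 2) (Fin 2) F →ₐ[F] Matrix (Fin 4) (Fin 4) F :=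
    eK.symm.toAlgHom.comp (ψ.codRestrict K.range fun a => hcomm _ (hψc a))
  have hχ : ∀ a, K (χ a) = ψ a := fun a => congrArg Subtype.val (eK.apply_symm_apply _)
  obtain ⟨w', e', Q', hw', hQ'⟩ := units_form (by norm_num) χ
  rw [Fintype.card_fin] at hw'
  obtain rfl : w' = 2 := by omega
  let R' : Matrix (Fin 2 × Fin 2) (Fin 2 × Fin 2) F ≃ₐ[F] Matrix (Fin 4) (Fin 4) F :=
    (Matrix.reindexAlgEquiv F F e'.symm).trans (cjA Q')
  have hχR : ∀ a, χ a = R' (a ⊗ₖ 1) := fun a => by rw [hQ']; rfl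
  let K' : Matrix (Fin 2) (Fin 2) F →ₐ[F] Matrix (Fin 8) (Fin 8) F := K.comp (R'.toAlgHom.comp (kronHom 2 2))
  have hK'val : ∀ C, K' C = K (R' ((1 : Matrix (Fin 2) (Fin 2) F) ⊗ₖ C)) := fun C => rfl
  have hK'inj : Function.Injective K' := hKinj.comp (R'.injective.comp (kronHom_injective (by norm_num) 2))
  obtain ⟨G₂, hG₂, hfix₂⟩ := kron_form e' Q' J₂_isUnit J₂_isUnit
  obtain ⟨G, hG, hfix⟩ := kron_form e Q J₂_isUnit hG₂
  have hdet : ∀ (V : Subgroup (GL (Fin 8) F)), ⁅V, V⁆ = V → ∀ (θ : Matrix (Fin 2) (Fin 2) F →ₐ[F] Matrix (Fin 8) (Fin 8) F),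
      Function.Injective θ → (∀ x ∈ V, (x : Matrix (Fin 8) (Fin 8) F) ∈ θ.range) →
      ∀ x ∈ V, ∃ a, (x : Matrix (Fin 8) (Fin 8) F) = θ a ∧ aᵀ * (J₂ * a) = J₂ := by
    intro V hV θ hθ hr x hx
    let eθ := AlgEquiv.ofInjective θ hθ
    let f : V →* Matrix (Fin 2) (Fin 2) F :=
      { toFun := fun y => eθ.symm ⟨_, hr y y.2⟩
        map_one' := by
          rw [show (⟨_, hr (1 : V) (1 : V).2⟩ : θ.range) = 1 from Subtype.ext rfl, map_one]
        map_mul' := fun y z => by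
          rw [← map_mul]; rfl }
    refine ⟨f ⟨x, hx⟩, (congrArg Subtype.val (eθ.apply_symm_apply ⟨_, hr x hx⟩)).symm, J₂_fixed (det_one_of_perfect hV f _)⟩
  have hone : ((1 : Matrix (Fin 2) (Fin 2) F))ᵀ * (J₂ * 1) = J₂ := by simp
  have hG2one : ((1 : Matrix (Fin 4) (Fin 4) F))ᵀ * (G₂ * 1) = G₂ := by simp
  refine ⟨G, hG, fun U hU x hx => ?_⟩
  obtain ⟨hUp, hU' | hU' | hU'⟩ := hK U hU
  · subst hU'
    obtain ⟨a, hxa, ha⟩ := hdet _ hS φ hφ hSr x hx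
    rw [hxa, hQ]
    exact hfix a 1 ha hG2one
  · subst hU'
    obtain ⟨a, hxa, ha⟩ := hdet _ hT ψ hψ hTr x hx
    rw [hxa, ← hχ]
    exact hfix 1 (χ a) hone (by rw [hQ']; exact hfix₂ a 1 ha hone)
  · obtain ⟨a, hxa, ha⟩ := hdet U hUp K' hK'inj (fun y hy => by
      obtain ⟨B, hB⟩ := hcomm _ (hU'.1 y hy)
      have hB' : K B = (y : Matrix (Fin 8) (Fin 8) F) := hB
      obtain ⟨C, hC⟩ := kron_commutant (show 0 < 2 by norm_num) (R'.symm B) fun i j => by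
        apply R'.injective
        rw [map_mul, map_mul, AlgEquiv.apply_symm_apply, ← hχR]
        apply hKinj
        rw [map_mul, map_mul, hχ, hB']
        exact hU'.2 y hy _
      refine ⟨C, ?_⟩
      show K' C = _
      rw [hK'val, ← hC, AlgEquiv.apply_symm_apply, hB']) x hx
    rw [hxa, hK'val]
    exact hfix 1 _ hone (hfix₂ 1 a hone ha)

end Cfsg.Agent.Lib.SLEight
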